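import Mathlib
import Cfsg.Agent.Lib.helper15.St2

/-!
# STC: abstract Steinberg systems of type `C_m` (definitions)

Signed indices `ι ⊕ ι` (`inl i` = `e_i`, `inr i` = `f_i = e_{-i}`), negation `ng = Sum.swap`, signs `sg`.
Elementary symplectic matrices `Tm a b t` (short root `e_a - e_b` for `b ≠ ng a`, long root `2 e_a` for
`b = ng a`) in Mathlib's `Matrix.symplecticGroup l K` (form `J = [[0, -1], [1, 0]]`).
An abstract system `SysC K ι G` is a family `x a b t` of elements of a group `G` satisfying the Chevalley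
relations of the `Tm a b t` (all of them checked numerically in `Sp₆(5)`).  Port of helper7's type `A` library
`Cfsg.Agent.Lib.helper7.St` (files `StB`–`StK`).
-/

set_option autoImplicit false

namespace Cfsg.Agent.Lib.helper3.STC

open Cfsg.Agent.Lib.helper15.St2

/-- negation of a signed index -/
def ng {ι : Type*} (a : ι ⊕ ι) : ι ⊕ ι := Sum.swap a

/-- the sign of a signed index -/
def sg {K : Type*} [One K] [Neg K] {ι : Type*} : ι ⊕ ι → K
  | Sum.inl _ => 1
  | Sum.inr _ => -1

/-- the absolute value of a signed index -/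
def ab {ι : Type*} : ι ⊕ ι → ι
  | Sum.inl i => i
  | Sum.inr i => i

/-- The elementary symplectic matrix: `1 + t E_{a,b} - sg a * sg b * t E_{-b,-a}` for `b ≠ -a`, and
`1 + t E_{a,-a}` for `b = -a`. -/
def Tm {l : Type*} [DecidableEq l] {K : Type*} [Field K] (a b : l ⊕ l) (t : K) :
    Matrix (l ⊕ l) (l ⊕ l) K :=
  if b = ng a then 1 + Matrix.single a b t
  else 1 + Matrix.single a b t - Matrix.single (ng b) (ng a) (sg a * sg b * t)

/-- An abstract Steinberg system of type `C` on the index type `ι` in the group `G`. -/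
structure SysC (K : Type*) [Field K] (ι : Type*) (G : Type*) [Group G] where
  x : ι ⊕ ι → ι ⊕ ι → K → G
  diag : ∀ a t, x a a t = 1
  sym : ∀ a b, a ≠ b → ∀ t, x a b t = x (ng b) (ng a) (-(sg a * sg b * t))
  add : ∀ a b, a ≠ b → ∀ t u, x a b t * x a b u = x a b (t + u)
  comm : ∀ a b c d, a ≠ b → c ≠ d → b ≠ c → a ≠ d → b ≠ ng d → a ≠ ng c → ∀ t u,
    x a b t * x c d u = x c d u * x a b t
  comm3 : ∀ a b c, a ≠ b → a ≠ ng b → b ≠ c → b ≠ ng c → a ≠ c → a ≠ ng c → ∀ t u,
    x a b t * x b c u * (x a b t)⁻¹ * (x b c u)⁻¹ = x a c (t * u)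
  ssl : ∀ a b, a ≠ b → a ≠ ng b → ∀ t u,
    x a b t * x b (ng a) u * (x a b t)⁻¹ * (x b (ng a) u)⁻¹ = x a (ng a) (2 * t * u)
  ls : ∀ a b, a ≠ b → a ≠ ng b → ∀ t u,
    x a (ng a) t * x (ng a) b u * (x a (ng a) t)⁻¹ * (x (ng a) b u)⁻¹ =
      x a b (t * u) * x (ng b) b (sg a * sg b * t * u ^ 2)
  rel : ∀ a b, a ≠ b → ∀ t u, t ≠ 0 →
    cj (x a b t * x b a (-t⁻¹) * x a b t) (x a b u) = x b a (-(t⁻¹ ^ 2 * u))

namespace SysC

variable {K : Type*} [Field K] {ι : Type*} {G : Type*} [Group G] (S : SysC K ι G)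

/-- The element `w_ab(t)`. -/
def w (a b : ι ⊕ ι) (t : K) : G := S.x a b t * S.x b a (-t⁻¹) * S.x a b t

/-- The element `h_ab(t)`. -/
def h (a b : ι ⊕ ι) (t : K) : G := S.w a b t * S.w a b (-1)

/-- The rank one system attached to a pair of distinct signed indices. -/
def st (a b : ι ⊕ ι) (hab : a ≠ b) : St K G where
  X c t := if c then S.x a b t else S.x b a t
  add c t u := by
    cases c
    · exact S.add b a hab.symm t u
    · exact S.add a b hab t u
  rel c t u ht := by
    cases c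
    · exact S.rel b a hab.symm t u ht
    · exact S.rel a b hab t u ht

/-- `g` acts monomially on the root elements, with permutation `σ` of the signed indices and
coefficients `d`. -/
def IsMon (g : G) (σ : Equiv.Perm (ι ⊕ ι)) (d : ι ⊕ ι → K) : Prop :=
  (∀ k, d k ≠ 0) ∧
    ∀ k l, k ≠ l → ∀ t, cj g (S.x k l t) = S.x (σ k) (σ l) (d k * (d l)⁻¹ * t)

/-- The subgroup generated by the root subgroups `x a b` with `Q a b`. -/
def XQ (Q : ι ⊕ ι → ι ⊕ ι → Prop) : Subgroup G :=
  Subgroup.closure {g | ∃ a b t, a ≠ b ∧ Q a b ∧ g = S.x a b t}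

variable (o : ι ⊕ ι)

/-- The lower unipotent radical (a Heisenberg group): generated by the `x a o`. -/
def Yg : Subgroup G := S.XQ (fun _ b => b = o)

/-- The subgroup fixing the basis vector `e_o`: generated by the `x a b` with `b ≠ o` and `a ≠ -o`. -/
def Pg : Subgroup G := S.XQ (fun a b => b ≠ o ∧ a ≠ ng o)

/-- The upper unipotent radical: generated by the `x o b`. -/
def Ag : Subgroup G := S.XQ (fun a _ => a = o)

/-- The Levi factor: generated by the `x a b` with `a, b ∉ {o, -o}`. -/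
def Lg : Subgroup G := S.XQ (fun a b => (a ≠ o ∧ a ≠ ng o) ∧ (b ≠ o ∧ b ≠ ng o))

/-- The torus part. -/
def Hg : Subgroup G := Subgroup.closure {g | ∃ b t, b ≠ o ∧ t ≠ 0 ∧ g = S.h o b t}

/-- The parabolic subgroup (the stabiliser of the line of `e_o`). -/
def Phat : Subgroup G := S.Pg o ⊔ S.Hg o

/-- The big cell. -/
def cell0 : Set G := {g | ∃ y ∈ S.Yg o, ∃ p ∈ S.Phat o, g = y * p}

/-- The cell attached to `k`. -/
def cell (k : ι ⊕ ι) : Set G := {g | ∃ y ∈ S.Yg o, ∃ p ∈ S.Phat o, g = S.w o k 1 * y * p}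

/-- Membership in the union of the cells. -/
def InD (g : G) : Prop := g ∈ S.cell0 o ∨ ∃ k, k ≠ o ∧ g ∈ S.cell o k

/-- The set of products `a * l * h_{o,-o}(c)`. -/
def ALT : Set G :=
  {g | ∃ a ∈ S.Ag o, ∃ l ∈ S.Lg o, ∃ c : K, c ≠ 0 ∧ g = a * l * S.h o (ng o) c}

/-- A homomorphism to a symplectic group sending the root elements to the elementary symplectic
matrices. -/
structure Rep (S : SysC K ι G) (l : Type*) [Fintype l] [DecidableEq l] where
  e : ι ↪ l
  φ : G →* Matrix.symplecticGroup l K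
  hφ : ∀ a b, a ≠ b → ∀ t,
    ((φ (S.x a b t) : Matrix.symplecticGroup l K) : Matrix (l ⊕ l) (l ⊕ l) K) =
      Tm (Sum.map e e a) (Sum.map e e b) t

end SysC

/-- coefficients of the short Weyl element `w a b u` (`a ≠ b`, `a ≠ ng b`) -/
def dws {K : Type*} [Field K] {ι : Type*} [DecidableEq ι] (a b : ι ⊕ ι) (u : K) : ι ⊕ ι → K := fun k =>
  if k = a then -u⁻¹ else if k = b then u else if k = ng b then sg a * sg b * u⁻¹
  else if k = ng a then -(sg a * sg b * u) else 1

/-- coefficients of the long Weyl element `w a (ng a) u` -/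
def dwl {K : Type*} [Field K] {ι : Type*} [DecidableEq ι] (a : ι ⊕ ι) (u : K) : ι ⊕ ι → K := fun k =>
  if k = a then -u⁻¹ else if k = ng a then u else 1

/-- the permutation of the short Weyl element -/
def sws {ι : Type*} [DecidableEq ι] (a b : ι ⊕ ι) : Equiv.Perm (ι ⊕ ι) :=
  Equiv.swap a b * Equiv.swap (ng a) (ng b)

end Cfsg.Agent.Lib.helper3.STC
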