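import Mathlib
import Cfsg.Agent.Lib.helper3.STC.Defs

/-!
# STC: more definitions (unified Weyl data, torus coefficients, auxiliary subgroups)
-/

set_option autoImplicit false

namespace Cfsg.Agent.Lib.helper3.STC

open Cfsg.Agent.Lib.helper15.St2

/-- the permutation of the Weyl element `w a b u` (short or long) -/
def wpm {ι : Type*} [DecidableEq ι] (a b : ι ⊕ ι) : Equiv.Perm (ι ⊕ ι) :=
  if b = ng a then Equiv.swap a (ng a) else sws a b

/-- the coefficients of the Weyl element `w a b u` (short or long) -/
def dwc {K : Type*} [Field K] {ι : Type*} [DecidableEq ι] (a b : ι ⊕ ι) (u : K) : ι ⊕ ι → K :=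
  if b = ng a then dwl a u else dws a b u

/-- coefficients of the short torus element `h a b u` (`a ≠ b`, `a ≠ ng b`) -/
def dhs {K : Type*} [Field K] {ι : Type*} [DecidableEq ι] (a b : ι ⊕ ι) (u : K) : ι ⊕ ι → K := fun k =>
  if k = a ∨ k = ng b then u else if k = b ∨ k = ng a then u⁻¹ else 1

/-- coefficients of the long torus element `h a (ng a) u` -/
def dhl {K : Type*} [Field K] {ι : Type*} [DecidableEq ι] (a : ι ⊕ ι) (u : K) : ι ⊕ ι → K := fun k =>
  if k = a then u else if k = ng a then u⁻¹ else 1

/-- the coefficients of the torus element `h a b u` (short or long) -/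
def dhc {K : Type*} [Field K] {ι : Type*} [DecidableEq ι] (a b : ι ⊕ ι) (u : K) : ι ⊕ ι → K :=
  if b = ng a then dhl a u else dhs a b u

namespace SysC

variable {K : Type*} [Field K] {ι : Type*} {G : Type*} [Group G] (S : SysC K ι G)

/-- the part of `Yg o` without the root subgroup `x j o` -/
def Yj (o j : ι ⊕ ι) : Subgroup G := S.XQ (fun a b => b = o ∧ a ≠ j)

/-- the part of `Yg o` without the root subgroups `x o' o` and `x (ng o') o` -/
def Yjj (o o' : ι ⊕ ι) : Subgroup G := S.XQ (fun a b => b = o ∧ (a ≠ o' ∧ a ≠ ng o'))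

/-- the centre of `Yg o`: the long root subgroup `x (ng o) o` -/
def Zg (o : ι ⊕ ι) : Subgroup G := S.XQ (fun a b => b = o ∧ a = ng o)

/-- the long root element `z(c) = x (ng o) o c` -/
def zz (o : ι ⊕ ι) (c : K) : G := S.x (ng o) o c

end SysC

/-- the embedding of the signed indices given by an embedding of the indices -/
def Em {ι l : Type*} (e : ι ↪ l) (a : ι ⊕ ι) : l ⊕ l := Sum.map e e a

/-- the basis vector of a signed index -/
def ev {l : Type*} [DecidableEq l] {K : Type*} [Field K] (c : l ⊕ l) : l ⊕ l → K := Pi.single c 1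

end Cfsg.Agent.Lib.helper3.STC
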