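import Mathlib
import Cfsg.Agent.Lib.helper3.STC.Defs
import Cfsg.Agent.Lib.helper3.STC.Defs2

/-!
# STC: definitions for the cell decomposition and the kernel argument (blocks F, A, R, J of the skeleton)
-/

set_option autoImplicit false

namespace Cfsg.Agent.Lib.helper3.STC

open Cfsg.Agent.Lib.helper15.St2

namespace SysC

variable {K : Type*} [Field K] {ι : Type*} {G : Type*} [Group G] (S : SysC K ι G)

/-- all the Weyl elements act monomially (the conclusion of blocks W and X, used as a hypothesis in the later blocks) -/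
def HW [DecidableEq ι] : Prop :=
  ∀ a b : ι ⊕ ι, a ≠ b → ∀ u : K, u ≠ 0 → S.IsMon (S.w a b u) (wpm a b) (dwc a b u)

/-- all the torus elements act diagonally -/
def HH [DecidableEq ι] : Prop :=
  ∀ a b : ι ⊕ ι, a ≠ b → ∀ u : K, u ≠ 0 → S.IsMon (S.h a b u) 1 (dhc a b u)

/-- the part of `Yg o` without the root subgroups `x a o`, `a ∈ T` -/
def YT (o : ι ⊕ ι) (T : Finset (ι ⊕ ι)) : Subgroup G := S.XQ (fun a b => b = o ∧ a ∉ T)

/-- `n` lies in the parabolic subgroup `Phat o` and normalises `Yg o` -/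
def NP (o : ι ⊕ ι) (n : G) : Prop := n ∈ S.Phat o ∧ ∀ y ∈ S.Yg o, cj n y ∈ S.Yg o

/-- the matrix of `g` in a representation -/
def Rep.M {S : SysC K ι G} {l : Type*} [Fintype l] [DecidableEq l] (R : S.Rep l) (g : G) :
    Matrix (l ⊕ l) (l ⊕ l) K :=
  ((R.φ g : Matrix.symplecticGroup l K) : Matrix (l ⊕ l) (l ⊕ l) K)

end SysC

/-- the signed indices of the complement of `i₀`, as signed indices -/
def sv {ι : Type*} (i₀ : ι) (a : {i // i ≠ i₀} ⊕ {i // i ≠ i₀}) : ι ⊕ ι :=
  Sum.map Subtype.val Subtype.val a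

end Cfsg.Agent.Lib.helper3.STC
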