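import Mathlib
import Cfsg.Agent.Lib.helper3.STC.Defs
import Cfsg.Agent.Lib.helper3.STC.Defs2
import Cfsg.Agent.Lib.helper3.STC.Defs3

/-!
# STC: the subsystem on the complement of an index (block K of the skeleton, definitions)

`S.sub i₀` is the Steinberg system of type `C` on `{i // i ≠ i₀}` inside the Levi factor `S.Lg (Sum.inl i₀)`; a representation restricts to it.
-/

set_option autoImplicit false

namespace Cfsg.Agent.Lib.helper3.STC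

open Cfsg.Agent.Lib.helper15.St2

universe v w

section sv
variable {ι : Type*} (i₀ : ι)

theorem sv_ng (a : {i // i ≠ i₀} ⊕ {i // i ≠ i₀}) : sv i₀ (ng a) = ng (sv i₀ a) := by
  cases a <;> rfl

theorem sg_sv {K : Type*} [One K] [Neg K] (a : {i // i ≠ i₀} ⊕ {i // i ≠ i₀}) : (sg (sv i₀ a) : K) = sg a := by
  cases a <;> rfl

theorem sv_injective : Function.Injective (sv i₀) := by
  intro a b h
  cases a <;> cases b <;> simp [sv] at h <;> simp [Subtype.ext_iff, h]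

theorem sv_ne {a b : {i // i ≠ i₀} ⊕ {i // i ≠ i₀}} (h : a ≠ b) : sv i₀ a ≠ sv i₀ b :=
  (sv_injective i₀).ne h

theorem sv_ne_ng {a b : {i // i ≠ i₀} ⊕ {i // i ≠ i₀}} (h : a ≠ ng b) : sv i₀ a ≠ ng (sv i₀ b) := by
  rw [← sv_ng]
  exact sv_ne i₀ h

theorem sv_ne_inl (a : {i // i ≠ i₀} ⊕ {i // i ≠ i₀}) : sv i₀ a ≠ Sum.inl i₀ := by
  cases a with
  | inl i => intro h; exact i.2 (Sum.inl.inj h)
  | inr i => intro h; cases h

theorem sv_ne_inr (a : {i // i ≠ i₀} ⊕ {i // i ≠ i₀}) : sv i₀ a ≠ ng (Sum.inl i₀) := by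
  cases a with
  | inl i => intro h; cases h
  | inr i => intro h; exact i.2 (Sum.inr.inj h)

/-- every signed index other than `± i₀` comes from the complement -/
theorem exists_sv {c : ι ⊕ ι} (h1 : c ≠ Sum.inl i₀) (h2 : c ≠ ng (Sum.inl i₀)) : ∃ a, sv i₀ a = c := by
  cases c with
  | inl i => exact ⟨Sum.inl ⟨i, fun h => h1 (by rw [h])⟩, rfl⟩
  | inr i => exact ⟨Sum.inr ⟨i, fun h => h2 (by rw [h]; rfl)⟩, rfl⟩

end sv

namespace SysC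

variable {K : Type*} [Field K] {ι : Type v} {G : Type w} [Group G] (S : SysC K ι G)

theorem x_mem_Lg_sv (i₀ : ι) (a b : {i // i ≠ i₀} ⊕ {i // i ≠ i₀}) (t : K) :
    S.x (sv i₀ a) (sv i₀ b) t ∈ S.Lg (Sum.inl i₀) := by
  by_cases h : sv i₀ a = sv i₀ b
  · rw [h, S.diag]; exact one_mem _
  · exact Subgroup.subset_closure ⟨sv i₀ a, sv i₀ b, t, h,
      ⟨⟨sv_ne_inl i₀ a, sv_ne_inr i₀ a⟩, ⟨sv_ne_inl i₀ b, sv_ne_inr i₀ b⟩⟩, rfl⟩

/-- The subsystem on the complement of the index `i₀`, inside the Levi factor. -/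
def sub (i₀ : ι) : SysC K {i // i ≠ i₀} (S.Lg (Sum.inl i₀)) where
  x a b t := ⟨S.x (sv i₀ a) (sv i₀ b) t, S.x_mem_Lg_sv i₀ a b t⟩
  diag a t := Subtype.ext (S.diag (sv i₀ a) t)
  sym a b hab t := Subtype.ext (by
    show S.x (sv i₀ a) (sv i₀ b) t = S.x (sv i₀ (ng b)) (sv i₀ (ng a)) (-(sg a * sg b * t))
    rw [sv_ng, sv_ng, ← sg_sv i₀ a, ← sg_sv i₀ b]
    exact S.sym _ _ (sv_ne i₀ hab) t)
  add a b hab t u := Subtype.ext (S.add _ _ (sv_ne i₀ hab) t u)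
  comm a b c d hab hcd hbc had hbd hac t u := Subtype.ext
    (S.comm _ _ _ _ (sv_ne i₀ hab) (sv_ne i₀ hcd) (sv_ne i₀ hbc) (sv_ne i₀ had) (sv_ne_ng i₀ hbd)
      (sv_ne_ng i₀ hac) t u)
  comm3 a b c hab hab' hbc hbc' hac hac' t u := Subtype.ext
    (S.comm3 _ _ _ (sv_ne i₀ hab) (sv_ne_ng i₀ hab') (sv_ne i₀ hbc) (sv_ne_ng i₀ hbc') (sv_ne i₀ hac)
      (sv_ne_ng i₀ hac') t u)
  ssl a b hab hab' t u := Subtype.ext (by
    show S.x (sv i₀ a) (sv i₀ b) t * S.x (sv i₀ b) (sv i₀ (ng a)) u * (S.x (sv i₀ a) (sv i₀ b) t)⁻¹ *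
      (S.x (sv i₀ b) (sv i₀ (ng a)) u)⁻¹ = S.x (sv i₀ a) (sv i₀ (ng a)) (2 * t * u)
    rw [sv_ng]
    exact S.ssl _ _ (sv_ne i₀ hab) (sv_ne_ng i₀ hab') t u)
  ls a b hab hab' t u := Subtype.ext (by
    show S.x (sv i₀ a) (sv i₀ (ng a)) t * S.x (sv i₀ (ng a)) (sv i₀ b) u *
        (S.x (sv i₀ a) (sv i₀ (ng a)) t)⁻¹ * (S.x (sv i₀ (ng a)) (sv i₀ b) u)⁻¹ =
      S.x (sv i₀ a) (sv i₀ b) (t * u) * S.x (sv i₀ (ng b)) (sv i₀ b) (sg a * sg b * t * u ^ 2)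
    rw [sv_ng, sv_ng, ← sg_sv i₀ a, ← sg_sv i₀ b]
    exact S.ls _ _ (sv_ne i₀ hab) (sv_ne_ng i₀ hab') t u)
  rel a b hab t u ht := Subtype.ext (by
    show cj (S.x (sv i₀ a) (sv i₀ b) t * S.x (sv i₀ b) (sv i₀ a) (-t⁻¹) * S.x (sv i₀ a) (sv i₀ b) t)
      (S.x (sv i₀ a) (sv i₀ b) u) = S.x (sv i₀ b) (sv i₀ a) (-(t⁻¹ ^ 2 * u))
    exact S.rel _ _ (sv_ne i₀ hab) t u ht)

theorem sub_x_coe (i₀ : ι) (a b : {i // i ≠ i₀} ⊕ {i // i ≠ i₀}) (t : K) :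
    (((S.sub i₀).x a b t : S.Lg (Sum.inl i₀)) : G) = S.x (sv i₀ a) (sv i₀ b) t := rfl

/-- the subsystem generates the Levi factor -/
theorem sub_gen (i₀ : ι) : (S.sub i₀).XQ (fun _ _ => True) = ⊤ := by
  have h : {g : S.Lg (Sum.inl i₀) | ∃ (a b : {i // i ≠ i₀} ⊕ {i // i ≠ i₀}) (t : K),
        a ≠ b ∧ True ∧ g = (S.sub i₀).x a b t} =
      ((↑) : S.Lg (Sum.inl i₀) → G) ⁻¹' {g | ∃ a b t, a ≠ b ∧
        ((a ≠ Sum.inl i₀ ∧ a ≠ ng (Sum.inl i₀)) ∧ (b ≠ Sum.inl i₀ ∧ b ≠ ng (Sum.inl i₀))) ∧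
          g = S.x a b t} := by
    ext ⟨g, hg⟩
    constructor
    · rintro ⟨a, b, t, hab, -, h⟩
      exact ⟨sv i₀ a, sv i₀ b, t, sv_ne i₀ hab,
        ⟨⟨sv_ne_inl i₀ a, sv_ne_inr i₀ a⟩, ⟨sv_ne_inl i₀ b, sv_ne_inr i₀ b⟩⟩, congrArg Subtype.val h⟩
    · rintro ⟨a, b, t, hab, ⟨⟨ha, ha'⟩, ⟨hb, hb'⟩⟩, h⟩
      obtain ⟨a', rfl⟩ := exists_sv i₀ ha ha'
      obtain ⟨b', rfl⟩ := exists_sv i₀ hb hb'
      exact ⟨a', b', t, fun e => hab (by rw [e]), trivial, Subtype.ext h⟩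
  unfold XQ
  rw [h]
  exact Subgroup.closure_closure_coe_preimage

/-- over an empty index type there are no root elements -/
theorem XQ_eq_bot_of_isEmpty [IsEmpty ι] (Q : ι ⊕ ι → ι ⊕ ι → Prop) : S.XQ Q = ⊥ := by
  rw [eq_bot_iff]
  unfold XQ
  rw [Subgroup.closure_le]
  rintro _ ⟨a, -, -, -, -, -⟩
  exact (isEmptyElim (α := ι ⊕ ι) a)

namespace Rep

variable {S} {l : Type*} [Fintype l] [DecidableEq l] (R : S.Rep l)

/-- The restriction of a representation to the subsystem. -/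
def sub (i₀ : ι) : (S.sub i₀).Rep l where
  e := (Function.Embedding.subtype _).trans R.e
  φ := R.φ.comp (S.Lg (Sum.inl i₀)).subtype
  hφ a b hab t := by
    have h := R.hφ (sv i₀ a) (sv i₀ b) (sv_ne i₀ hab) t
    have e1 : ∀ c : {i // i ≠ i₀} ⊕ {i // i ≠ i₀},
        Sum.map ((Function.Embedding.subtype _).trans R.e) ((Function.Embedding.subtype _).trans R.e) c =
          Sum.map R.e R.e (sv i₀ c) := by
      intro c; cases c <;> rfl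
    rw [e1, e1]
    exact h

theorem sub_phi (i₀ : ι) (x : S.Lg (Sum.inl i₀)) : (R.sub i₀).φ x = R.φ (x : G) := rfl

end Rep

end SysC

end Cfsg.Agent.Lib.helper3.STC
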